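import Groth.Agent.ProjMorph.VeryAmple
import Groth.Agent.ProjMorph.Ample
import Groth.Agent.ProjMorph.PullGen
import Groth.Agent.ProjProper.Basic

/-!
# The coordinate sections of a very ample module in projective-space form

For a proper `q : X ⟶ Y`, `Y` affine, a module which is very ample in projective space form has
global sections with affine loci covering `X`, the functions on which are generated by the base and
the ratios of the sections.
-/

set_option autoImplicit false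
set_option linter.style.haveILetI false
universe u

open CategoryTheory Limits AlgebraicGeometry TopologicalSpace Opposite HomogeneousLocalization

noncomputable section

namespace Groth.Agent.Fibres16.FibVA

open Groth.Agent.QCoh Groth.Agent.Props.GenLocus Groth.Agent.AmpleLib Groth.Agent.ProjMorph
open Groth.Agent.Props.ProjFrame Groth.Agent.Props.GenPull

variable {n : ℕ}

/-- The functions on a standard chart of `P^n_ℤ` are generated by the ratios of the coordinates. -/
theorem closure_ratio (k : Fin (n + 1)) :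
    Subring.closure (Set.range fun l : Fin (n + 1) =>
      ratio (𝒜 := CohB1.polyGrading n (ULift.{u} ℤ)) (MvPolynomial.isHomogeneous_X (ULift.{u} ℤ) k)
        (MvPolynomial.isHomogeneous_X (ULift.{u} ℤ) l)) = ⊤ := by
  let 𝒜 := CohB1.polyGrading n (ULift.{u} ℤ)
  let t : Fin (n + 1) → MvPolynomial (Fin (n + 1)) (ULift.{u} ℤ) := fun l => MvPolynomial.X l
  have ht : ∀ l, t l ∈ 𝒜 1 := fun l => MvPolynomial.isHomogeneous_X _ l
  let v : Fin (n + 1) → Away 𝒜 (t k) := fun l =>
    Away.mk 𝒜 (ht k) 1 (t l) (by rw [smul_eq_mul, one_mul]; exact ht l)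
  let S : Subring (Away 𝒜 (t k)) := Subring.closure (Set.range v)
  let S' : Subring (Localization.Away (t k)) :=
    S.map (algebraMap (Away 𝒜 (t k)) (Localization.Away (t k)))
  have hS : S = ⊤ := by
    refine top_le_iff.mp fun z _ => ?_
    obtain ⟨d, a, ha, rfl⟩ := Away.mk_surjective 𝒜 (ht k) z
    rw [smul_eq_mul, mul_one] at ha
    obtain ⟨Q, hQ, rfl⟩ := exists_isHomogeneous t ht MvPolynomial.adjoin_range_X ha
    let φ : ULift.{u} ℤ →+* Localization.Away (t k) :=
      (algebraMap (MvPolynomial (Fin (n + 1)) (ULift.{u} ℤ)) (Localization.Away (t k))).comp MvPolynomial.C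
    let w : Localization.Away (t k) := IsLocalization.Away.invSelf (t k)
    let A := algebraMap (MvPolynomial (Fin (n + 1)) (ULift.{u} ℤ)) (Localization.Away (t k))
    have hv : ∀ l, (v l).val = w * A (t l) := fun l => by
      change (Away.mk 𝒜 (ht k) 1 (t l) _).val = _
      rw [Away.val_mk, Localization.mk_eq_mk', IsLocalization.mk'_eq_iff_eq_mul]
      change A (t l) = w * A (t l) * A (t k ^ 1)
      rw [pow_one, mul_right_comm, mul_comm w (A (t k)),
        IsLocalization.Away.mul_invSelf (t k), one_mul]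
    have hmem : MvPolynomial.eval₂ φ (fun l => w * A (t l)) Q ∈ S' := by
      refine MvPolynomial.eval₂_mem (s := S') (fun m _ => ?_) fun l => ?_
      · obtain ⟨c⟩ := MvPolynomial.coeff m Q
        have : φ (ULift.up c) = (c : Localization.Away (t k)) := by
          have := map_intCast (φ.comp (ULift.ringEquiv.symm : ℤ ≃+* ULift.{u} ℤ).toRingHom) c
          exact this
        rw [this]
        exact intCast_mem S' c
      · exact ⟨v l, Subring.subset_closure ⟨l, rfl⟩, hv l⟩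
    rw [eval₂_mul_of_isHomogeneous φ (fun l => A (t l)) w hQ] at hmem
    obtain ⟨y, hy, hye⟩ := hmem
    suffices h : Away.mk 𝒜 (ht k) d ((MvPolynomial.aeval t) Q) (by rwa [smul_eq_mul, mul_one]) = y by
      rw [h]; exact hy
    refine val_injective _ ?_
    refine Eq.trans ?_ hye.symm
    have h2 : MvPolynomial.eval₂ φ (fun l => A (t l)) Q = A ((MvPolynomial.aeval t) Q) := by
      rw [MvPolynomial.aeval_def, MvPolynomial.eval₂_comp_left A]
      rfl
    rw [h2, Away.val_mk, Localization.mk_eq_mk', IsLocalization.mk'_eq_iff_eq_mul]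
    change A _ = w ^ d * A _ * A (t k ^ d)
    rw [map_pow, mul_right_comm, ← mul_pow, mul_comm w, IsLocalization.Away.mul_invSelf (t k),
      one_pow, one_mul]
  have hbij : Function.Bijective (Proj.awayToSection 𝒜 (t k)) := by
    have : IsIso (Proj.awayToSection 𝒜 (t k)) := by
      rw [← Proj.basicOpenIsoAway_hom 𝒜 (t k) (ht k) one_pos]; infer_instance
    exact ConcreteCategory.bijective_of_isIso _
  refine top_le_iff.mp fun z _ => ?_
  obtain ⟨z, rfl⟩ := hbij.2 z
  have hz : z ∈ S := hS ▸ Subring.mem_top z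
  have h1 : Proj.awayToSection 𝒜 (t k) z ∈ S.map (Proj.awayToSection 𝒜 (t k)).hom := ⟨z, hz, rfl⟩
  rw [RingHom.map_closure, ← Set.range_comp] at h1
  convert h1 using 3
  funext l
  exact (awayToSection_mk_one (ht k) (ht l) _).symm

variable {X Y : Scheme.{u}}

/-- The coordinate sections of a very ample module on a proper scheme over an affine one. -/
theorem exists_sections [IsAffine Y] (q : X ⟶ Y) [IsProper q] {L : X.Modules}
    (h : RelAmple.IsRelVeryAmplePn q L) :
    ∃ (n : ℕ) (s : Fin (n + 1) → Γ(L, ⊤)),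
      ⊤ ≤ ⨆ k, locus (O := ⊤) (s k) ∧ (∀ k, IsAffineOpen (locus (O := ⊤) (s k))) ∧
      ∀ k (c : Fin (n + 1) → Γ(X, locus (O := ⊤) (s k))),
        (∀ l, res L (le_top : locus (O := ⊤) (s k) ≤ ⊤) (s l) = c l • res L le_top (s k)) →
        Subring.closure (Set.range (q.appLE ⊤ (locus (O := ⊤) (s k)) le_top) ∪ Set.range c) = ⊤ := by
  obtain ⟨n, i, hi, hiq, ⟨φ⟩⟩ := h
  subst hiq
  let 𝒜 := CohB1.polyGrading n (ULift.{u} ℤ)
  let p₁ : CohB1.ProjSpaceOver n Y ⟶ Proj 𝒜 :=
    pullback.fst (CohB1.ProjSpace.toSpec n (ULift.{u} ℤ)) (specULiftZIsTerminal.from Y)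
  let p₂ : CohB1.ProjSpaceOver n Y ⟶ Y :=
    pullback.snd (CohB1.ProjSpace.toSpec n (ULift.{u} ℤ)) (specULiftZIsTerminal.from Y)
  haveI : IsAffineHom (specULiftZIsTerminal.from Y) := isAffineHom_of_isAffine _
  haveI : IsProper (CohB1.ProjSpace.toSpec n (ULift.{u} ℤ)) :=
    ProjProper.Basic.isProper_toSpec n (ULift.{u} ℤ)
  haveI : IsSeparated p₂ := MorphismProperty.pullback_snd _ _ inferInstance
  haveI : IsProper i := IsProper.of_comp i p₂
  haveI : IsClosedImmersion i := IsClosedImmersion.of_isPreimmersion i i.isClosedMap.isClosed_range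
  let r := i ≫ p₁
  let t : Fin (n + 1) → MvPolynomial (Fin (n + 1)) (ULift.{u} ℤ) := fun l => MvPolynomial.X l
  have ht : ∀ l, t l ∈ 𝒜 1 := fun l => MvPolynomial.isHomogeneous_X _ l
  let τ : (Scheme.Modules.pullback r).obj (Twist.twist 𝒜 1) ≅ L :=
    ((Scheme.Modules.pullbackComp i p₁).app _).symm ≪≫ φ.symm
  let s : Fin (n + 1) → Γ(L, ⊤) := fun l =>
    τ.hom.app ⊤ (ProjUP.pullSec r (Twist.twist 𝒜 1) (gsec (ht l)))
  have hgen : Algebra.adjoin (ULift.{u} ℤ) (Set.range t) = ⊤ := MvPolynomial.adjoin_range_X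
  have hM := isInvertible_twist_one t ht hgen
  have hloc : ∀ k, locus (O := ⊤) (s k) = r ⁻¹ᵁ Proj.basicOpen 𝒜 (t k) := fun k => by
    rw [locus_app_iso]
    rw [← locus_gsec t ht hgen (ht k), ← locus_pb r hM]
    rfl
  have hp1aff : IsAffineHom p₁ := MorphismProperty.pullback_fst _ _ inferInstance
  have hDaff : ∀ k, IsAffineOpen (p₁ ⁻¹ᵁ Proj.basicOpen 𝒜 (t k)) := fun k =>
    (Proj.isAffineOpen_basicOpen _ _ (ht k) one_pos).preimage p₁
  refine ⟨n, s, ?_, fun k => ?_, fun k c hc => ?_⟩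
  · simp only [hloc]
    rw [← r.preimage_iSup, iSup_basicOpen_gen t ht hgen, r.preimage_top]
  · rw [hloc]
    exact (hDaff k).preimage i
  have hS := (subring_closure_appLE_pullback (CohB1.ProjSpace.toSpec n (ULift.{u} ℤ))
    (specULiftZIsTerminal.from Y) (Proj.isAffineOpen_basicOpen 𝒜 (t k) (ht k) one_pos)
    (isAffineOpen_top Y) (V := p₁ ⁻¹ᵁ Proj.basicOpen 𝒜 (t k)) (by
      change _ = p₁ ⁻¹ᵁ _ ⊓ p₂ ⁻¹ᵁ ⊤
      rw [Scheme.Hom.preimage_top, inf_top_eq]; rfl)).2
  let U := locus (O := ⊤) (s k)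
  have hUi : U ≤ i ⁻¹ᵁ (p₁ ⁻¹ᵁ Proj.basicOpen 𝒜 (t k)) := (hloc k).le
  have hsurj : Function.Surjective (i.appLE (p₁ ⁻¹ᵁ Proj.basicOpen 𝒜 (t k)) U hUi) := by
    intro z
    have hle : i ⁻¹ᵁ (p₁ ⁻¹ᵁ Proj.basicOpen 𝒜 (t k)) ≤ U := (hloc k).ge
    obtain ⟨a, ha⟩ := i.app_surjective _ (hDaff k) (rres hle z)
    refine ⟨a, ?_⟩
    change rres hUi (i.app _ a) = z
    rw [ha, rres_rres, rres_self]
  have hratio : ∀ l, r.appLE (Proj.basicOpen 𝒜 (t k)) U (hloc k).le (ratio (ht k) (ht l)) = c l := by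
    intro l
    refine (isGen_locus (s k)).injective le_rfl ?_
    simp only [res_self]
    refine Eq.trans ?_ (hc l)
    have key : ∀ m, res L (le_top : r ⁻¹ᵁ Proj.basicOpen 𝒜 (t k) ≤ ⊤) (s m) =
        r.app _ (ratio (ht k) (ht m)) • τ.hom.app _ (pb r (frame (ht k))) := fun m => by
      rw [← app_res, res_pullSec r (ht k) (ht m), Scheme.Modules.Hom.app_smul]
    have h1 := congrArg (res L (hloc k).le) (key l)
    have h2 := congrArg (res L (hloc k).le) (key k)
    rw [ratio_self, map_one, one_smul, res_res] at h2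
    rw [res_res, res_smul, ← h2] at h1
    exact h1.symm
  have hbase : ∀ z, i.appLE (p₁ ⁻¹ᵁ Proj.basicOpen 𝒜 (t k)) U hUi
      (p₂.appLE ⊤ (p₁ ⁻¹ᵁ Proj.basicOpen 𝒜 (t k)) le_top z) = (i ≫ p₂).appLE ⊤ U le_top z := fun z =>
    ConcreteCategory.congr_hom (Scheme.Hom.appLE_comp_appLE i p₂ ⊤ _ U le_top hUi) z
  have hproj : ∀ z, i.appLE (p₁ ⁻¹ᵁ Proj.basicOpen 𝒜 (t k)) U hUi
      (p₁.appLE (Proj.basicOpen 𝒜 (t k)) _ le_rfl z) = r.appLE (Proj.basicOpen 𝒜 (t k)) U (hloc k).le z :=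
    fun z => ConcreteCategory.congr_hom (Scheme.Hom.appLE_comp_appLE i p₁ _ _ U le_rfl hUi) z
  refine top_le_iff.mp ?_
  let T := Subring.closure (Set.range ((i ≫ p₂).appLE ⊤ U le_top) ∪ Set.range c)
  suffices h : (⊤ : Subring _) ≤ T.comap (i.appLE (p₁ ⁻¹ᵁ Proj.basicOpen 𝒜 (t k)) U hUi).hom by
    intro z _
    obtain ⟨a, rfl⟩ := hsurj z
    exact h (Subring.mem_top a)
  refine hS.ge.trans (Subring.closure_le.mpr ?_)
  rintro _ (⟨z, rfl⟩ | ⟨z, rfl⟩)
  · change i.appLE _ U hUi (p₁.appLE _ _ _ z) ∈ T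
    rw [hproj]
    have hz : z ∈ (⊤ : Subring Γ(Proj 𝒜, Proj.basicOpen 𝒜 (t k))) := Subring.mem_top z
    rw [← closure_ratio k] at hz
    change z ∈ T.comap (r.appLE _ U (hloc k).le).hom
    refine Subring.closure_le.mpr ?_ hz
    rintro _ ⟨l, rfl⟩
    change r.appLE _ U (hloc k).le (ratio (ht k) (ht l)) ∈ T
    rw [hratio]
    exact Subring.subset_closure (Or.inr ⟨l, rfl⟩)
  · change i.appLE _ U hUi (p₂.appLE ⊤ _ _ z) ∈ T
    rw [hbase]
    exact Subring.subset_closure (Or.inl ⟨z, rfl⟩)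

end Groth.Agent.Fibres16.FibVA

end
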