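import Groth.Agent.CBC.Deg0Thms
import Groth.Agent.CBC.Fibre
import Groth.Agent.LimTop.PullSec
import Mathlib.RingTheory.Localization.Basic

/-!
# Lifting sections of fibres to the neighbourhood, up to denominators
-/

set_option autoImplicit false
set_option linter.style.haveILetI false
universe u

open CategoryTheory CategoryTheory.Limits Opposite TopologicalSpace AlgebraicGeometry Function

noncomputable section

namespace Groth.Agent.Fibres16.FibVA

variable {X S : Scheme.{u}}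

/-- The residue field consists of fractions of values of functions on an affine neighbourhood. -/
theorem exists_mul_appLE_eq {V : S.Opens} (hV : IsAffineOpen V) {y : S} (hy : y ∈ V)
    (κ : Γ(Spec (S.residueField y), ⊤)) :
    ∃ a b : Γ(S, V),
      IsUnit ((S.fromSpecResidueField y).appLE V ⊤ (CBC.fromSpecResidueField_le y hy) b) ∧
        (S.fromSpecResidueField y).appLE V ⊤ (CBC.fromSpecResidueField_le y hy) b * κ =
          (S.fromSpecResidueField y).appLE V ⊤ (CBC.fromSpecResidueField_le y hy) a := by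
  obtain ⟨κ, rfl⟩ := (ConcreteCategory.bijective_of_isIso (Scheme.ΓSpecIso (S.residueField y)).inv).2 κ
  obtain ⟨z, hz⟩ : ∃ z, (S.residue y).hom z = κ := IsLocalRing.residue_surjective κ
  letI := TopCat.Presheaf.algebra_section_stalk S.presheaf (⟨y, hy⟩ : V)
  haveI := hV.isLocalization_stalk ⟨y, hy⟩
  obtain ⟨⟨a, b⟩, hab⟩ := IsLocalization.surj (hV.primeIdealOf ⟨y, hy⟩).asIdeal.primeCompl z
  have hb : IsUnit (algebraMap Γ(S, V) (S.presheaf.stalk y) b) := IsLocalization.map_units _ b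
  have hev : ∀ c : Γ(S, V), (S.fromSpecResidueField y).appLE V ⊤ (CBC.fromSpecResidueField_le y hy) c =
      (Scheme.ΓSpecIso (S.residueField y)).inv ((S.residue y).hom (algebraMap Γ(S, V) (S.presheaf.stalk y) c)) :=
    fun c => by
      rw [CBC.fromSpecResidueField_appLE y hy, ← Scheme.germ_residue]
      rfl
  refine ⟨a, b, ?_, ?_⟩
  · rw [hev]
    exact (hb.map _).map _
  · rw [hev, hev, ← hz, ← map_mul]
    congr 1
    rw [← hab]
    rw [map_mul]
    exact mul_comm _ _

variable {f : X ⟶ S}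

/-- The restriction of sections to a fibre. -/
abbrev toFibre (F : X.Modules) {V : S.Opens} {y : S} (hy : y ∈ V) :
    Γ(F, f ⁻¹ᵁ V) →+ Γ((Scheme.Modules.pullback (f.fiberι y)).obj F, ⊤) :=
  LimTop.unitSec (f.fiberι y) F (W := ⊤) (fun z _ => show f (f.fiberι y z) ∈ V by
    have := congr(($(f.fiber_fac y)) z)
    rw [show f (f.fiberι y z) = (f.fiberι y ≫ f) z from rfl, this]
    exact CBC.fromSpecResidueField_le y hy trivial)

/-- Sections coming from the base up to denominators. -/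
theorem exists_common_denom {A K B M Z : Type*} [CommRing A] [CommRing K] [CommRing B] [AddCommGroup M]
    [Module B M] [AddCommGroup Z] (φ : A →+* K) (ψ : K →+* B) (ρ : Z →+ M) (σ : A → Z → Z)
    (hσ : ∀ c z, ρ (σ c z) = ψ (φ c) • ρ z)
    (hfrac : ∀ k : K, ∃ a b : A, IsUnit (φ b) ∧ φ b * k = φ a)
    (hgen : ∀ t : M, ∀ P : M → Prop, (∀ z, P (ρ z)) → P 0 →
      (∀ k m, P m → P (ψ k • m)) → (∀ m₁ m₂, P m₁ → P m₂ → P (m₁ + m₂)) → P t)
    {κ : Type*} [Fintype κ] (s : κ → M) :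
    ∃ (b : K) (z : κ → Z), IsUnit b ∧ ∀ l, ρ (z l) = ψ b • s l := by
  have key : ∀ t : M, ∃ (c : A) (z : Z), IsUnit (φ c) ∧ ρ z = ψ (φ c) • t := fun t => by
    refine hgen t (fun t => ∃ (c : A) (z : Z), IsUnit (φ c) ∧ ρ z = ψ (φ c) • t)
      (fun z => ⟨1, z, by simp, by simp⟩) ⟨1, 0, by simp, by simp⟩ ?_ ?_
    · rintro k m ⟨c, z, hc, hz⟩
      obtain ⟨a, b, hb, hab⟩ := hfrac k
      refine ⟨b * c, σ a z, by rw [map_mul]; exact hb.mul hc, ?_⟩
      rw [hσ, hz, ← hab]
      simp only [map_mul, smul_smul]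
      congr 1
      ring
    · rintro m₁ m₂ ⟨c₁, z₁, hc₁, hz₁⟩ ⟨c₂, z₂, hc₂, hz₂⟩
      refine ⟨c₁ * c₂, σ c₂ z₁ + σ c₁ z₂, by rw [map_mul]; exact hc₁.mul hc₂, ?_⟩
      rw [map_add, hσ, hσ, hz₁, hz₂]
      simp only [map_mul, smul_smul, smul_add]
      congr 2 <;> ring
  classical
  choose c z hc hz using fun l => key (s l)
  refine ⟨φ (∏ l, c l), fun l => σ (∏ m ∈ Finset.univ.erase l, c m) (z l), ?_, fun l => ?_⟩
  · rw [map_prod]
    exact IsUnit.prod_iff.2 fun l _ => hc l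
  · rw [hσ, hz, smul_smul, ← map_mul, ← map_mul, mul_comm, Finset.mul_prod_erase _ _ (Finset.mem_univ l)]

lemma toFibre_smul (F : X.Modules) {V : S.Opens} {y : S} (hy : y ∈ V) (c : Γ(S, V))
    (z : Γ(F, f ⁻¹ᵁ V)) :
    toFibre F hy (f.app V c • z) =
      (f.fiberToSpecResidueField y).appTop
        ((S.fromSpecResidueField y).appLE V ⊤ (CBC.fromSpecResidueField_le y hy) c) • toFibre F hy z := by
  have hle := CBC.fromSpecResidueField_le y hy
  have e1 : ∀ e : ⊤ ≤ f.fiberι y ⁻¹ᵁ (f ⁻¹ᵁ V), (f.fiberι y).appLE (f ⁻¹ᵁ V) ⊤ e (f.app V c) =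
      (f.fiberToSpecResidueField y).appTop ((S.fromSpecResidueField y).appLE V ⊤ hle c) := fun e => by
    have h2 := Scheme.Hom.appLE_comp_appLE (f.fiberι y) f V (f ⁻¹ᵁ V) ⊤ le_rfl e
    have h3 := Scheme.Hom.appLE_comp_appLE (f.fiberToSpecResidueField y) (S.fromSpecResidueField y)
      V ⊤ ⊤ hle le_top
    have h4 : (f.fiberToSpecResidueField y).appLE ⊤ ⊤ le_top = (f.fiberToSpecResidueField y).appTop := by
      rw [Scheme.Hom.appTop, Scheme.Hom.app_eq_appLE]; rfl
    rw [← h4, Scheme.Hom.app_eq_appLE]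
    refine ((ConcreteCategory.congr_hom h2 c).trans ?_).trans (ConcreteCategory.congr_hom h3 c).symm
    congr 2
    simp only [f.fiber_fac y]
  exact (LimTop.unitSec_smul (f.fiberι y) F _ (f.app V c) z).trans
    (congrArg (fun a => a • toFibre F hy z) (e1 _))

/-- If `H¹` of the fibres over `V` vanishes, sections of the fibre are fractions of global ones. -/
theorem exists_lift [IsProper f] [LocallyOfFinitePresentation f] {F : X.Modules} [F.IsQuasicoherent]
    [HasInjectiveResolutions X.Modules] (hF : CohB1.IsFP F) (hfl : FlatMod.IsFlatOver f F) {U : S.Opens}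
    (h1 : ∀ y ∈ U, Subsingleton (CohIII.fiberH f F y 1)) {y : S} (hy : y ∈ U) :
    ∃ (V : S.Opens) (hyV : y ∈ V), IsAffineOpen V ∧ V ≤ U ∧
      ∀ {κ : Type} [Fintype κ] (s : κ → Γ((Scheme.Modules.pullback (f.fiberι y)).obj F, ⊤)),
        ∃ (b : Γ(Spec (S.residueField y), ⊤)) (z : κ → Γ(F, f ⁻¹ᵁ V)), IsUnit b ∧
          ∀ l, toFibre F hyV (z l) = (f.fiberToSpecResidueField y).appTop b • s l := by
  obtain ⟨N, hyV, hNU, hR⟩ := CBC.exists_rExact_zero_of_fibres hF hfl U h1 hy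
  refine ⟨N.V, hyV, N.hV, hNU, ?_⟩
  intro κ _ s
  let g := S.fromSpecResidueField y
  let q := f.fiberToSpecResidueField y
  let ι := f.fiberι y
  have H : IsPullback ι q f g := IsPullback.of_hasPullback f g
  have hiso : IsIso (CohBC.bc0 f g q ι H.w F) := CBC.isIso_bc0_of_rExact H fun z =>
    ⟨N, CBC.fromSpecResidueField_le y hyV trivial, hR⟩
  let R := (Scheme.Modules.pushforward f).obj F
  haveI : R.IsQuasicoherent := QCoh.isQuasicoherent_pushforward f F
  have hle : ⊤ ≤ g ⁻¹ᵁ N.V := CBC.fromSpecResidueField_le y hyV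
  have hb := LimTop.isBaseChange_unitSec g R hle N.hV (isAffineOpen_top (Spec (S.residueField y)))
  let M := Γ((Scheme.Modules.pullback ι).obj F, ⊤)
  let β : Γ((Scheme.Modules.pullback g).obj R, ⊤) →+ M :=
    ((CohBC.bc0 f g q ι H.w F).app ⊤).hom
  have hsurj : Surjective β := (ConcreteCategory.bijective_of_isIso _).2
  have hβs : ∀ (a : Γ(Spec (S.residueField y), ⊤)) w, β (a • w) = q.appTop a • β w := fun a w =>
    Scheme.Modules.Hom.app_smul (CohBC.bc0 f g q ι H.w F) a w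
  have hβu : ∀ m : Γ(F, f ⁻¹ᵁ N.V), β (LimTop.unitSec g R hle m) = toFibre F hyV m := fun m =>
    CBC.bc0_app_unitSec F H.w hle _ m
  refine exists_common_denom ((g.appLE N.V ⊤ hle).hom) q.appTop.hom (toFibre F hyV)
    (fun c z => f.app N.V c • z) (toFibre_smul F hyV) (exists_mul_appLE_eq N.hV hyV) (fun t => ?_) s
  obtain ⟨w, rfl⟩ := hsurj t
  have hP : ∀ P : M → Prop, (∀ z, P (toFibre F hyV z)) → P 0 →
      (∀ k m, P m → P (q.appTop k • m)) → (∀ m₁ m₂, P m₁ → P m₂ → P (m₁ + m₂)) → P (β w) := by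
    intro P h0 hz hs ha
    letI := (g.appLE N.V ⊤ hle).hom.toAlgebra
    letI := LimTop.secModule g R hle
    haveI : IsScalarTower Γ(S, N.V) Γ(Spec (S.residueField y), ⊤)
        Γ((Scheme.Modules.pullback g).obj R, ⊤) :=
      IsScalarTower.of_algebraMap_smul fun _ _ => rfl
    induction w using hb.inductionOn with
    | zero => rw [map_zero]; exact hz
    | tmul m => exact (hβu m).symm ▸ h0 m
    | smul a w hw => rw [hβs]; exact hs a _ hw
    | add w₁ w₂ h₁ h₂ => rw [map_add]; exact ha _ _ h₁ h₂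
  exact hP

end Groth.Agent.Fibres16.FibVA

end
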