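import Groth.Agent.Fibres16.FibVA.Extract
import Groth.Agent.Fibres16.FibVA.Lift
import Groth.Agent.ProjBundleLib.PushId
import Groth.Agent.GenFinite.ClosedImm
import Groth.Agent.Cube.Seesaw
import Groth.Agent.FlatMor.LineValuation
import Groth.Agent.ModShf.GrothAb
import Mathlib.AlgebraicGeometry.Morphisms.UniversallyInjective
import Mathlib.AlgebraicGeometry.ZariskisMainTheorem

/-!
# Fibrewise very ampleness with vanishing `H¹` gives very ampleness
-/

set_option autoImplicit false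
set_option linter.style.haveILetI false
universe u

open CategoryTheory Limits AlgebraicGeometry TopologicalSpace Opposite

noncomputable section

namespace Groth.Agent.Fibres16.FibVA

open Groth.Agent.QCoh Groth.Agent.Props.GenLocus Groth.Agent.AmpleLib Groth.Agent.ProjBundleLib RelProj

/-- Two morphisms into an affine open agreeing on generators of its ring are equal. -/
theorem eq_of_generators {T F P S : Scheme.{u}} (φ : F ⟶ P) (q : F ⟶ S) {U : F.Opens}
    (hU : IsAffineOpen U) {D : P.Opens} (hUD : U ≤ φ ⁻¹ᵁ D) {κ : Type*} (c : κ → Γ(F, U))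
    (hc : ∀ l, c l ∈ Set.range (φ.appLE D U hUD))
    (hgen : Subring.closure (Set.range (q.appLE ⊤ U le_top) ∪ Set.range c) = ⊤) {a b : T ⟶ F}
    (ha : ⊤ ≤ a ⁻¹ᵁ U) (hb : ⊤ ≤ b ⁻¹ᵁ U) (hφ : a ≫ φ = b ≫ φ) (hq : a ≫ q = b ≫ q) : a = b := by
  have hra : Set.range a.base ⊆ Set.range U.ι.base := by
    rintro _ ⟨t, rfl⟩; rw [Scheme.Opens.range_ι]; exact ha trivial
  have hrb : Set.range b.base ⊆ Set.range U.ι.base := by
    rintro _ ⟨t, rfl⟩; rw [Scheme.Opens.range_ι]; exact hb trivial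
  let a' := IsOpenImmersion.lift U.ι a hra
  let b' := IsOpenImmersion.lift U.ι b hrb
  have ea : a' ≫ U.ι = a := IsOpenImmersion.lift_fac _ _ _
  have eb : b' ≫ U.ι = b := IsOpenImmersion.lift_fac _ _ _
  haveI : IsAffine U.toScheme := hU
  suffices h : a' = b' by rw [← ea, ← eb, h]
  have key : ∀ z : Γ(F, U), a.appLE U ⊤ ha z = b.appLE U ⊤ hb z := by
    intro z
    have hz : z ∈ Subring.closure (Set.range (q.appLE ⊤ U le_top) ∪ Set.range c) := hgen ▸ Subring.mem_top z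
    refine RingHom.eqOn_set_closure (f := (a.appLE U ⊤ ha).hom) (g := (b.appLE U ⊤ hb).hom) ?_ hz
    rintro _ (⟨w, rfl⟩ | ⟨l, rfl⟩)
    · have h1 := Scheme.Hom.appLE_comp_appLE a q ⊤ U ⊤ le_top ha
      have h2 := Scheme.Hom.appLE_comp_appLE b q ⊤ U ⊤ le_top hb
      refine (ConcreteCategory.congr_hom h1 w).trans (Eq.trans ?_ (ConcreteCategory.congr_hom h2 w).symm)
      congr 2
      simp only [hq]
    · obtain ⟨w, hw⟩ := hc l
      rw [← hw]
      have h1 := Scheme.Hom.appLE_comp_appLE a φ D U ⊤ hUD ha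
      have h2 := Scheme.Hom.appLE_comp_appLE b φ D U ⊤ hUD hb
      refine (ConcreteCategory.congr_hom h1 w).trans (Eq.trans ?_ (ConcreteCategory.congr_hom h2 w).symm)
      congr 2
      simp only [hφ]
  refine ext_of_isAffine (CommRingCat.hom_ext (RingHom.ext fun w => ?_))
  haveI : IsIso (U.ι.app U) := U.ι.isIso_app U U.opensRange_ι.ge
  have hι : ⊤ ≤ U.ι ⁻¹ᵁ U := fun x _ => x.2
  haveI : IsIso (U.ι.appLE U ⊤ hι) := by
    have hh : IsIso (homOfLE hι) := ⟨homOfLE (top_le_iff.mp hι).le, rfl, rfl⟩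
    rw [Scheme.Hom.appLE]
    infer_instance
  obtain ⟨z, rfl⟩ := (ConcreteCategory.bijective_of_isIso (U.ι.appLE U ⊤ hι)).2 w
  have e : ∀ (d : T ⟶ U.toScheme) (d₀ : T ⟶ F) (he : ⊤ ≤ d₀ ⁻¹ᵁ U), d ≫ U.ι = d₀ →
      d.appTop (U.ι.appLE U ⊤ hι z) = d₀.appLE U ⊤ he z := by
    intro d d₀ he hd
    have h4 : d.appLE ⊤ ⊤ le_top = d.appTop := by rw [Scheme.Hom.appTop, Scheme.Hom.app_eq_appLE]; rfl
    rw [← h4]
    refine (ConcreteCategory.congr_hom (Scheme.Hom.appLE_comp_appLE d U.ι U ⊤ ⊤ hι le_top) z).trans ?_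
    congr 2
    simp only [hd]
  exact (e a' a ha ea).trans ((key z).trans (e b' b hb eb).symm)

/-- Monomorphisms may be checked on a covering by preimages. -/
theorem mono_of_pieces {F P : Scheme.{u}} (φ : F ⟶ P) {κ : Type*} (D : κ → P.Opens)
    (hcov : ⊤ ≤ ⨆ j, φ ⁻¹ᵁ D j)
    (H : ∀ (j) {T : Scheme.{u}} (a b : T ⟶ F), ⊤ ≤ a ⁻¹ᵁ (φ ⁻¹ᵁ D j) → ⊤ ≤ b ⁻¹ᵁ (φ ⁻¹ᵁ D j) →
      a ≫ φ = b ≫ φ → a = b) : Mono φ := by
  refine ⟨fun {T} a b h => ?_⟩
  refine Scheme.Cover.hom_ext (T.openCoverOfIsOpenCover (fun j => a ⁻¹ᵁ (φ ⁻¹ᵁ D j))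
    (IsOpenCover.mk (top_le_iff.mp fun t _ => ?_))) _ _ fun j => ?_
  · obtain ⟨j, hj⟩ := Opens.mem_iSup.mp (hcov (trivial : a t ∈ ⊤))
    exact Opens.mem_iSup.mpr ⟨j, hj⟩
  · change (a ⁻¹ᵁ (φ ⁻¹ᵁ D j)).ι ≫ a = (a ⁻¹ᵁ (φ ⁻¹ᵁ D j)).ι ≫ b
    refine H j _ _ (fun t _ => t.2) (fun t _ => ?_) (by rw [Category.assoc, Category.assoc, h])
    have h1 := congr(($h) ((a ⁻¹ᵁ (φ ⁻¹ᵁ D j)).ι t))
    change φ (b ((a ⁻¹ᵁ (φ ⁻¹ᵁ D j)).ι t)) ∈ D j
    rw [show φ (b ((a ⁻¹ᵁ (φ ⁻¹ᵁ D j)).ι t)) = (b ≫ φ) ((a ⁻¹ᵁ (φ ⁻¹ᵁ D j)).ι t) from rfl, ← h1]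
    exact t.2

variable {X Y : Scheme.{u}} (f : X ⟶ Y) [IsProper f] [LocallyOfFinitePresentation f] [Flat f]
  (L : X.Modules) (hL : PicF.IsInvertible L)
  (hva : ∀ y : Y, RelAmple.IsRelVeryAmplePn (f.fiberToSpecResidueField y)
    ((Scheme.Modules.pullback (f.fiberι y)).obj L))
  (hH1 : ∀ y : Y, Subsingleton (Coh.HH (f.fiber y) ((Scheme.Modules.pullback (f.fiberι y)).obj L) 1))

/-- Sections near a point cutting out the coordinate pieces of its fibre. -/
structure Pieces (y : Y) where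
  n : ℕ
  V : Y.Opens
  hV : IsAffineOpen V
  hy : y ∈ V
  z : Fin (n + 1) → Γ(L, f ⁻¹ᵁ V)
  cov : ⊤ ≤ ⨆ k, f.fiberι y ⁻¹ᵁ locus (z k)
  aff : ∀ k, IsAffineOpen (f.fiberι y ⁻¹ᵁ locus (z k))
  gen : ∀ k (c : Fin (n + 1) → Γ(X, locus (z k))),
    (∀ l, res L (locus_le (z k)) (z l) = c l • res L (locus_le (z k)) (z k)) →
      Subring.closure (Set.range ((f.fiberToSpecResidueField y).appLE ⊤ (f.fiberι y ⁻¹ᵁ locus (z k)) le_top) ∪
        Set.range fun l => (f.fiberι y).app (locus (z k)) (c l)) = ⊤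

include hL hva hH1 in
theorem exists_pieces (y : Y) : Nonempty (Pieces f L y) := by
  haveI : L.IsQuasicoherent := ProjTwist.isQCoh_of_isInvertible hL
  haveI : IsProper (f.fiberToSpecResidueField y) :=
    MorphismProperty.of_isPullback (IsPullback.of_hasPullback f (Y.fromSpecResidueField y)) ‹IsProper f›
  obtain ⟨n, s, hcov, haff, hgen⟩ := exists_sections _ (hva y)
  obtain ⟨V, hy, hV, -, hlift⟩ := exists_lift (f := f) (F := L) (FlatMor.LineValuation.isFP_of_isInvertible hL).2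
    (Cube.Seesaw.isFlatOver_of_invertible f hL) (U := ⊤) (fun y _ => hH1 y) (trivial : y ∈ ⊤)
  obtain ⟨b, z, hb, hz⟩ := hlift s
  let ι := f.fiberι y
  let q := f.fiberToSpecResidueField y
  have hu : IsUnit (q.appTop b) := hb.map _
  have hLy := PicCl.isInvertible_pullback ι hL
  have hloc : ∀ k, ι ⁻¹ᵁ locus (z k) = locus (O := ⊤) (s k) := fun k => by
    have h1 : locus (O := ⊤) (toFibre (f := f) L hy (z k)) = ι ⁻¹ᵁ locus (z k) := by
      change locus (O := ⊤) (res _ _ (Groth.Agent.Props.GenPull.pb ι (z k))) = _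
      rw [locus_res, locus_pb ι hL, inf_top_eq]
    rw [← h1, hz, locus_smul hLy, Scheme.basicOpen_of_isUnit _ hu, top_inf_eq]
  refine ⟨⟨n, V, hV, hy, z, ?_, fun k => hloc k ▸ haff k, fun k c hc => ?_⟩⟩
  · exact hcov.trans (le_of_eq (iSup_congr fun k => (hloc k).symm))
  · let W := ι ⁻¹ᵁ locus (z k)
    have hW : W = locus (O := ⊤) (s k) := hloc k
    have key : ∀ l, res _ (le_top : W ≤ ⊤) (s l) = ι.app _ (c l) • res _ (le_top : W ≤ ⊤) (s k) := by
      intro l
      have h1 := congrArg (LFFrame.unitSec ι L (locus (z k))) (hc l)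
      rw [LFFrame.unitSec_smul, LFFrame.unitSec_res, LFFrame.unitSec_res] at h1
      have h2 : ∀ m, res _ (ι.preimage_mono (locus_le (z k))) (LFFrame.unitSec ι L _ (z m)) =
          rres (le_top : W ≤ ⊤) (q.appTop b) • res _ (le_top : W ≤ ⊤) (s m) := fun m => by
        rw [← res_smul, ← hz m]
        change _ = res _ _ (res _ _ (LFFrame.unitSec ι L _ (z m)))
        rw [res_res]
      rw [h2 l, h2 k, smul_smul, mul_comm, ← smul_smul] at h1
      exact (hu.map (rres (le_top : W ≤ ⊤)).hom).smul_left_cancel.mp h1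
    have : ∀ (W' : (f.fiber y).Opens), W' = locus (O := ⊤) (s k) →
        ∀ d : Fin (n + 1) → Γ(f.fiber y, W'),
          (∀ l, res _ (le_top : W' ≤ ⊤) (s l) = d l • res _ (le_top : W' ≤ ⊤) (s k)) →
          Subring.closure (Set.range (q.appLE ⊤ W' le_top) ∪ Set.range d) = ⊤ := by
      rintro W' rfl d hd
      exact hgen k d hd
    exact this W hW _ key

variable {f L}

omit [IsProper f] [LocallyOfFinitePresentation f] [Flat f] in
/-- The classified morphism is a monomorphism on fibres. -/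
theorem mono_fibre {E : Y.Modules} [E.IsQuasicoherent] {v : E ⟶ (Scheme.Modules.pushforward f).obj L}
    (B : Bundle E) {r : X ⟶ B.P} (hr : Cls B.hj (v := v) (chart := B.chart) r) (hv : Gens v)
    {y : Y} (Q : Pieces f L y) (e : Fin (Q.n + 1) → Γ(E, Q.V)) (he : ∀ k, vsec v Q.V (e k) = Q.z k) :
    Mono (f.fiberι y ≫ r) := by
  have hrg : r ≫ B.p = f := Cls.comp_eq B.hj B.hP hv hr
  have hG : ∀ k, gLoc v Q.V (e k) = locus (Q.z k) := fun k => by
    rw [← he k]; rfl
  have hD : ∀ k, r ⁻¹ᵁ Dop B.j B.p B.chart Q.V Q.hV (e k) = locus (Q.z k) := fun k =>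
    (preimage_Dop_eq_gLoc hv hr Q.hV (e k)).trans (hG k)
  refine mono_of_pieces _ (fun k => Dop B.j B.p B.chart Q.V Q.hV (e k)) ?_ fun k T a b ha hb hab => ?_
  · refine Q.cov.trans (le_of_eq (iSup_congr fun k => ?_))
    rw [← hD k]; rfl
  have hq : a ≫ f.fiberToSpecResidueField y = b ≫ f.fiberToSpecResidueField y := by
    rw [← cancel_mono (Y.fromSpecResidueField y), Category.assoc, Category.assoc, ← f.fiber_fac y]
    have h1 := congrArg (· ≫ B.p) hab
    simpa only [Category.assoc, hrg] using h1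
  let D := Dop B.j B.p B.chart Q.V Q.hV (e k)
  let G := gLoc v Q.V (e k)
  let co : Fin (Q.n + 1) → Γ(X, locus (Q.z k)) := fun l =>
    rres (hG k).ge (chartCo B.hj Q.V Q.hV (e k) G frame_gLoc (ratio B.hj Q.hV (e k) (e l)))
  have hco : ∀ l, res L (locus_le (Q.z k)) (Q.z l) = co l • res L (locus_le (Q.z k)) (Q.z k) := fun l => by
    have h1 := chartAlg_spec B.hj (hU := Q.hV) (frame_gLoc (v := v) (U := Q.V) (e := e k)) (e l)
    rw [← chartCo_ratio B.hj (frame_gLoc (v := v) (U := Q.V) (e := e k))] at h1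
    have h2 := congrArg (res L (hG k).ge) h1
    rw [res_smul, res_res, res_res, he, he] at h2
    exact h2
  have hUD : f.fiberι y ⁻¹ᵁ locus (Q.z k) ≤ (f.fiberι y ≫ r) ⁻¹ᵁ D := by
    rw [Scheme.Hom.comp_preimage, hD k]
  refine eq_of_generators (f.fiberι y ≫ r) (f.fiberToSpecResidueField y) (Q.aff k) hUD
    (fun l => (f.fiberι y).app _ (co l)) (fun l => ?_) (Q.gen k co hco)
    (ha.trans (a.preimage_mono ?_)) (hb.trans (b.preimage_mono ?_)) hab hq
  · refine ⟨chartRing B.j B.p B.chart Q.V Q.hV (e k) (ratio B.hj Q.hV (e k) (e l)), ?_⟩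
    have h1 : r.appLE D G (preimage_Dop_eq_gLoc hv hr Q.hV (e k)).ge
        (chartRing B.j B.p B.chart Q.V Q.hV (e k) (ratio B.hj Q.hV (e k) (e l))) =
        chartCo B.hj Q.V Q.hV (e k) G frame_gLoc (ratio B.hj Q.hV (e k) (e l)) := by
      rw [← rCo_eq_of_cls B.hj hr (hU := Q.hV) frame_gLoc]
      rfl
    simp only [co, ← h1, Scheme.Hom.app_eq_appLE]
    change _ = (f.fiberι y).appLE _ _ _ (X.presheaf.map _ (r.appLE _ _ _ _))
    refine Eq.trans ?_ (congrArg _ (ConcreteCategory.congr_hom (Scheme.Hom.appLE_map r _ _) _).symm)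
    exact (ConcreteCategory.congr_hom (Scheme.Hom.appLE_comp_appLE (f.fiberι y) r D (locus (Q.z k))
      (f.fiberι y ⁻¹ᵁ locus (Q.z k)) (hD k).ge le_rfl) _).symm
  all_goals rw [Scheme.Hom.comp_preimage, hD k]

include hL hva hH1 in
/-- Fibrewise very ample with vanishing `H¹` gives very ample. -/
theorem isRelVeryAmple_of_fibres : RelProj.IsRelVeryAmple f L := by
  haveI : L.IsQuasicoherent := ProjTwist.isQCoh_of_isInvertible hL
  let R := (Scheme.Modules.pushforward f).obj L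
  haveI : R.IsQuasicoherent := isQuasicoherent_push hL
  let Q : ∀ y, Pieces f L y := fun y => (exists_pieces f L hL hva hH1 y).some
  have hv : Gens (𝟙 R) := gens_of_frames hL fun x => by
    obtain ⟨y, hy⟩ : ∃ y, f x = y := ⟨_, rfl⟩
    obtain ⟨w, rfl⟩ : ∃ w, f.fiberι y w = x := by
      have : x ∈ Set.range (f.fiberι y) := by rw [Scheme.Hom.range_fiberι]; exact hy
      exact this
    obtain ⟨k, hk⟩ := Opens.mem_iSup.mp ((Q y).cov (trivial : w ∈ ⊤))
    exact ⟨(Q y).V, (Q y).z k, gLoc (𝟙 R) (Q y).V ((Q y).z k), hk, frame_gLoc⟩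
  obtain ⟨B⟩ := exists_bundle R
  obtain ⟨r, hr, -⟩ := existsUnique_cls B.hj B.hP hv
  have hrg : r ≫ B.p = f := Cls.comp_eq B.hj B.hP hv hr
  haveI : IsSeparated B.p :=
    RelProjLib.property_of_charts @IsSeparated B.hP fun U hU => by infer_instance
  haveI : IsProper (r ≫ B.p) := by rw [hrg]; infer_instance
  haveI : IsProper r := IsProper.of_comp r B.p
  have hmono : ∀ p : B.P, Mono (r.fiberToSpecResidueField p) := fun p => by
    have hm : Mono (f.fiberι (B.p p) ≫ r) :=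
      mono_fibre B hr hv (Q (B.p p)) (Q (B.p p)).z fun k => rfl
    refine ⟨fun {T} a b hab => ?_⟩
    have key : ∀ c : T ⟶ r.fiber p, ∃ c' : T ⟶ f.fiber (B.p p),
        c' ≫ f.fiberι (B.p p) = c ≫ r.fiberι p := fun c => by
      refine ⟨pullback.lift (c ≫ r.fiberι p)
        (c ≫ r.fiberToSpecResidueField p ≫ Spec.map (B.p.residueFieldMap p)) ?_, pullback.lift_fst _ _ _⟩
      rw [Category.assoc, Category.assoc, Category.assoc,
        Scheme.Hom.SpecMap_residueFieldMap_fromSpecResidueField, ← r.fiber_fac_assoc p, hrg]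
    obtain ⟨a', ha'⟩ := key a
    obtain ⟨b', hb'⟩ := key b
    have h : a' = b' := by
      rw [← cancel_mono (f.fiberι (B.p p) ≫ r), reassoc_of% ha', reassoc_of% hb', r.fiber_fac p,
        reassoc_of% hab]
    refine pullback.hom_ext ?_ hab
    change a ≫ r.fiberι p = b ≫ r.fiberι p
    rw [← ha', ← hb', h]
  haveI : LocallyQuasiFinite r := by
    refine LocallyQuasiFinite.of_finite_preimage_singleton r fun p => ?_
    haveI := hmono p
    rw [← Scheme.Hom.range_fiberι]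
    haveI : Subsingleton (r.fiber p) :=
      (r.fiberToSpecResidueField p).injective.subsingleton
    exact Set.finite_range _
  haveI : IsFinite r := IsFinite.of_isProper_of_locallyQuasiFinite r
  have hloc : ∀ p : B.P, ∃ W : B.P.Opens, p ∈ W ∧ IsClosedImmersion (r ∣_ W) := fun p => by
    haveI : Mono (pullback.snd r (B.P.fromSpecResidueField p)) := hmono p
    haveI : IsFinite (pullback.snd r (B.P.fromSpecResidueField p)) :=
      MorphismProperty.pullback_snd _ _ inferInstance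
    obtain ⟨W, hW, hci⟩ := GenFinite.exists_nhd_isClosedImmersion r (B.P.fromSpecResidueField p)
      ((IsClosedImmersion.iff_isFinite_and_mono _).mpr ⟨inferInstance, hmono p⟩)
    exact ⟨W, Scheme.fromSpecResidueField_apply p default ▸ hW, hci⟩
  choose W hpW hW using hloc
  haveI : IsClosedImmersion r := (IsZariskiLocalAtTarget.iff_of_iSup_eq_top (P := @IsClosedImmersion) W
    (top_le_iff.mp fun p _ => Opens.mem_iSup.mpr ⟨p, hpW p⟩)).mpr hW
  exact isRelVeryAmple_of hv ⟨B, r, hr, inferInstance⟩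

end Groth.Agent.Fibres16.FibVA

end
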